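import Mathlib.FieldTheory.IsSepClosed
import Mathlib.FieldTheory.Separable
import Mathlib.RingTheory.Artinian.Module
import Mathlib.LinearAlgebra.Basis.VectorSpace
import Mathlib.LinearAlgebra.Dimension.Constructions
import Mathlib.LinearAlgebra.Dimension.OrzechProperty
import Mathlib.Tactic.LinearCombination

set_option autoImplicit false

/-!
# Semilinear Frobenius maps over separably closed fields
-/

universe u v

open Polynomial

namespace GrothLib.FrobSep

variable {k : Type u} [Field k] {V : Type v} [AddCommGroup V] [Module k V] {q : ℕ}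

theorem apply_sum_smul (φ : V →+ V) (hφ : ∀ (a : k) (v : V), φ (a • v) = a ^ q • φ v)
    {ι : Type*} (s : Finset ι) (c : ι → k) (f : ι → V) :
    φ (∑ i ∈ s, c i • f i) = ∑ i ∈ s, c i ^ q • φ (f i) := by
  rw [map_sum]; exact Finset.sum_congr rfl fun i _ => hφ _ _

/-- A semilinear map with spanning image preserves linear independence. -/
theorem linearIndependent_map [FiniteDimensional k V] (φ : V →+ V) (hφ : ∀ (a : k) (v : V), φ (a • v) = a ^ q • φ v)
    (hss : Submodule.span k (Set.range φ) = ⊤) {ι : Type*} {f : ι → V} (hf : LinearIndependent k f) :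
    LinearIndependent k (φ ∘ f) := by
  classical
  let B := Module.Basis.extend hf.linearIndepOn_id
  have := Fintype.ofFinite (hf.linearIndepOn_id.extend (Set.subset_univ (Set.range f)))
  have hspan : ⊤ ≤ Submodule.span k (Set.range (φ ∘ B)) := by
    rw [← hss, Submodule.span_le]
    rintro _ ⟨v, rfl⟩
    rw [← B.sum_repr v, apply_sum_smul φ hφ]
    exact Submodule.sum_mem _ fun i _ => Submodule.smul_mem _ _ (Submodule.subset_span ⟨i, rfl⟩)
  have hli : LinearIndependent k (φ ∘ B) :=
    linearIndependent_of_top_le_span_of_card_eq_finrank hspan (Module.finrank_eq_card_basis B).symm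
  let g : ι → (hf.linearIndepOn_id.extend (Set.subset_univ (Set.range f))) := fun i =>
    ⟨f i, hf.linearIndepOn_id.subset_extend _ ⟨i, rfl⟩⟩
  have hg : Function.Injective g := fun a b h => hf.injective (congrArg Subtype.val h)
  have h2 := hli.comp g hg
  rwa [show (φ ∘ B) ∘ g = φ ∘ f from funext fun i => congrArg φ (Module.Basis.extend_apply_self _ _)] at h2

variable [IsSepClosed k]

theorem exists_pow_sub_self (hq : 2 ≤ q) (hq0 : (q : k) = 0) (c : k) : ∃ y : k, y ^ q - y = c := by
  have hdeg : (X ^ q - X - C c : k[X]).degree ≠ 0 := by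
    rw [sub_sub, degree_sub_eq_left_of_degree_lt] <;> simp only [degree_X_pow, degree_X_add_C]
    · exact_mod_cast (by omega : q ≠ 0)
    · exact_mod_cast (by omega : 1 < q)
  have hsep : (X ^ q - X - C c : k[X]).Separable := by
    rw [separable_def, derivative_sub, derivative_sub, derivative_X_pow, derivative_C, derivative_X, hq0]
    simp only [map_zero, zero_mul, sub_zero, zero_sub]
    exact isCoprime_one_right.neg_right
  obtain ⟨y, hy⟩ := IsSepClosed.exists_root _ hdeg hsep
  exact ⟨y, by simpa [IsRoot, sub_eq_zero] using hy⟩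

theorem exists_fixed_ne_zero [FiniteDimensional k V] (hq : 2 ≤ q) (hq0 : (q : k) = 0) (φ : V →+ V)
    (hφ : ∀ (a : k) (v : V), φ (a • v) = a ^ q • φ v) (hss : Submodule.span k (Set.range φ) = ⊤)
    {v : V} (hv : v ≠ 0) : ∃ w, w ≠ 0 ∧ φ w = w := by
  classical
  let f : ℕ → V := fun i => φ^[i] v
  have hfs : ∀ i, φ (f i) = f (i + 1) := fun i => (Function.iterate_succ_apply' φ i v).symm
  have hex : ∃ n, ¬ LinearIndependent k (fun i : Fin (n + 1) => f i) :=
    ⟨Module.finrank k V, fun h => by simpa using h.fintype_card_le_finrank⟩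
  set n := Nat.find hex
  have hn : LinearIndependent k (fun i : Fin n => f i) := by
    rcases Nat.eq_zero_or_pos n with h | h
    · exact h.symm ▸ linearIndependent_empty_type
    · have h' := Nat.find_min hex (show n - 1 < n by omega)
      rw [not_not, show n - 1 + 1 = n by omega] at h'
      exact h'
  obtain ⟨m, hm⟩ : ∃ m, n = m + 1 := by
    refine ⟨n - 1, (Nat.succ_pred_eq_of_pos (Nat.pos_of_ne_zero fun h => ?_)).symm⟩
    have := Nat.find_spec hex
    rw [show Nat.find hex = 0 from h] at this
    exact this (linearIndependent_unique_iff (ι := Fin 1) (v := fun i : Fin 1 => f i) |>.2 (by simpa [f] using hv))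
  have hdep : f n ∈ Submodule.span k (Set.range fun i : Fin n => f i) := by
    by_contra h
    refine Nat.find_spec hex ?_
    show LinearIndependent k (fun i : Fin (n + 1) => f i)
    rw [show (fun i : Fin (n + 1) => f i) = Fin.snoc (fun i : Fin n => f i) (f n) by
      funext i; refine Fin.lastCases ?_ (fun j => ?_) i <;> simp]
    exact linearIndependent_finSnoc.2 ⟨hn, h⟩
  obtain ⟨a, ha⟩ := (Submodule.mem_span_range_iff_exists_fun k).1 hdep
  let a' : ℕ → k := fun i => if h : i < n then a ⟨i, h⟩ else 0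
  have ha' : ∑ i ∈ Finset.range n, a' i • f i = f n := by
    rw [← ha, Finset.sum_range]
    exact Finset.sum_congr rfl fun i _ => by simp [a', i.2]
  have ha0 : a' 0 ≠ 0 := by
    intro h0
    have hli := linearIndependent_map φ hφ hss hn
    rw [hm] at ha'
    rw [Finset.sum_range_succ', h0, zero_smul, add_zero] at ha'
    have h3 := Fintype.linearIndependent_iff.1 hli
      (fun i : Fin n => if (i : ℕ) < m then a' (i + 1) else -1) (by
        rw [show (∑ i : Fin n, (if (i : ℕ) < m then a' (i + 1) else -1) • (φ ∘ fun i : Fin n => f i) i) =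
            ∑ i ∈ Finset.range n, (if i < m then a' (i + 1) else -1) • f (i + 1) by
          rw [Finset.sum_range]; exact Finset.sum_congr rfl fun i _ => by simp [hfs],
          hm, Finset.sum_range_succ, if_neg (lt_irrefl m), neg_smul, one_smul, add_neg_eq_zero, ← ha']
        exact Finset.sum_congr rfl fun i hi => by rw [if_pos (Finset.mem_range.1 hi)])
      ⟨m, by omega⟩
    simp at h3
  let P : ℕ → k[X] := fun i => Nat.rec (C (a' 0) * X ^ q) (fun i Q => Q ^ q + C (a' (i + 1)) * X ^ q) i
  have hPdeg : ∀ i, i < n → (P i).natDegree = q ^ (i + 1) := by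
    intro i
    induction i with
    | zero => intro _; simp [P, natDegree_C_mul_X_pow _ _ ha0]
    | succ i ih =>
      intro hi
      show (P i ^ q + C (a' (i + 1)) * X ^ q).natDegree = _
      have h2 : (P i ^ q).natDegree = q ^ (i + 1 + 1) := by
        rw [natDegree_pow, ih (by omega), pow_succ' q (i + 1)]
      rw [natDegree_add_eq_left_of_natDegree_lt, h2]
      rw [h2]
      exact (natDegree_C_mul_X_pow_le _ _).trans_lt (by
        calc q = q ^ 1 := (pow_one q).symm
          _ < q ^ (i + 1 + 1) := Nat.pow_lt_pow_right hq (by omega))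
  have hPder : ∀ i, derivative (P i) = 0 := by
    intro i
    cases i with
    | zero => simp [P, hq0, derivative_X_pow]
    | succ i =>
      show derivative (P i ^ q + C (a' (i + 1)) * X ^ q) = 0
      simp [derivative_pow, hq0]
  set R := P m - X
  have hRdeg : R.natDegree = q ^ n := by
    rw [natDegree_sub_eq_left_of_natDegree_lt, hPdeg m (by omega), hm]
    rw [hPdeg m (by omega), natDegree_X]
    exact Nat.one_lt_pow (by omega) hq
  have hRsep : R.Separable := by
    rw [separable_def, derivative_sub, hPder, derivative_X, zero_sub]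
    exact isCoprime_one_right.neg_right
  obtain ⟨t, htR, ht0⟩ : ∃ t, R.IsRoot t ∧ t ≠ 0 := by
    by_contra h
    push Not at h
    have hsub : R.roots.toFinset ⊆ {0} := fun t ht => by
      simpa using h t (isRoot_of_mem_roots (Multiset.mem_toFinset.1 ht))
    have := Finset.card_le_card hsub
    rw [Multiset.toFinset_card_of_nodup (nodup_roots hRsep),
      ← (IsSepClosed.splits_of_separable R hRsep).natDegree_eq_card_roots, hRdeg, Finset.card_singleton] at this
    exact absurd this (not_le.2 (Nat.one_lt_pow (by omega) hq))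
  let x : ℕ → k := fun i => (P i).eval t
  have hxm : x m = t := by
    rw [IsRoot, eval_sub, eval_X, sub_eq_zero] at htR
    exact htR
  refine ⟨∑ i ∈ Finset.range n, x i • f i, fun h => ?_, ?_⟩
  · have := Fintype.linearIndependent_iff.1 hn (fun i : Fin n => x i)
      (by rw [← h, Finset.sum_range]) ⟨m, by omega⟩
    exact ht0 (hxm.symm.trans this)
  · rw [apply_sum_smul φ hφ]
    simp only [hfs]
    have hlast : x m ^ q • f n = ∑ i ∈ Finset.range n, (a' i * t ^ q) • f i := by
      rw [← ha', Finset.smul_sum, hxm]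
      exact Finset.sum_congr rfl fun i _ => by rw [smul_smul, mul_comm]
    have hx0 : x 0 = a' 0 * t ^ q := by simp [x, P]
    have hxs : ∀ i, x (i + 1) = x i ^ q + a' (i + 1) * t ^ q := fun i => by simp [x, P]
    rw [hm] at hlast ⊢
    rw [Finset.sum_range_succ, hlast, Finset.sum_range_succ' _ m, Finset.sum_range_succ' _ m,
      ← add_assoc, ← Finset.sum_add_distrib, hx0]
    congr 1
    exact Finset.sum_congr rfl fun i _ => by rw [hxs, add_smul]

/-- On the span of the fixed vectors `φ - 1` is surjective. -/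
theorem exists_sub_eq (hq : 2 ≤ q) (hq0 : (q : k) = 0) (φ : V →+ V)
    (hφ : ∀ (a : k) (v : V), φ (a • v) = a ^ q • φ v) {w : V} (hw : w ∈ Submodule.span k {v : V | φ v = v}) :
    φ w ∈ Submodule.span k {v : V | φ v = v} ∧ ∃ y ∈ Submodule.span k {v : V | φ v = v}, φ y - y = w := by
  obtain ⟨s, T, hs1, -, hs3⟩ := (Submodule.mem_span_iff_exists_finset_subset (R := k)).1 hw
  refine ⟨?_, ?_⟩
  · rw [← hs3, apply_sum_smul φ hφ]
    exact Submodule.sum_mem _ fun b hb => Submodule.smul_mem _ _
      (Submodule.subset_span (by show φ (φ b) = φ b; rw [show φ b = b from hs1 hb, show φ b = b from hs1 hb]))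
  · choose y hy using fun b : V => exists_pow_sub_self hq hq0 (s b)
    refine ⟨∑ b ∈ T, y b • b, Submodule.sum_mem _ fun b hb => Submodule.smul_mem _ _ (Submodule.subset_span (hs1 hb)), ?_⟩
    rw [← hs3, apply_sum_smul φ hφ, ← Finset.sum_sub_distrib]
    exact Finset.sum_congr rfl fun b hb => by rw [show φ b = b from hs1 hb, ← sub_smul, hy]

theorem span_fixed_eq_top {V : Type v} [AddCommGroup V] [Module k V] [FiniteDimensional k V]
    (hq : 2 ≤ q) (hq0 : (q : k) = 0) (φ : V →+ V)
    (hφ : ∀ (a : k) (v : V), φ (a • v) = a ^ q • φ v) (hss : Submodule.span k (Set.range φ) = ⊤) :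
    Submodule.span k {v : V | φ v = v} = ⊤ := by
  classical
  set W := Submodule.span k {v : V | φ v = v} with hWdef
  have hmap : ∀ w ∈ W, φ w ∈ W ∧ ∃ y ∈ W, φ y - y = w := fun w hw => exists_sub_eq hq hq0 φ hφ hw
  let ψ : (V ⧸ W) →+ (V ⧸ W) :=
    QuotientAddGroup.lift W.toAddSubgroup (W.mkQ.toAddMonoidHom.comp φ) fun w hw => by
      show W.mkQ (φ w) = 0
      exact (Submodule.Quotient.mk_eq_zero W).2 (hmap w hw).1
  have hψm : ∀ x, ψ (W.mkQ x) = W.mkQ (φ x) := fun _ => rfl
  by_contra hW
  obtain ⟨v, hv⟩ : ∃ v, v ∉ W := by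
    by_contra h
    push Not at h
    exact hW (eq_top_iff.2 fun v _ => h v)
  have hψss : Submodule.span k (Set.range ψ) = ⊤ := by
    rw [show Set.range ψ = W.mkQ '' Set.range φ by
      ext z
      constructor
      · rintro ⟨x, rfl⟩
        obtain ⟨x, rfl⟩ := W.mkQ_surjective x
        exact ⟨φ x, ⟨x, rfl⟩, (hψm x).symm⟩
      · rintro ⟨_, ⟨x, rfl⟩, rfl⟩
        exact ⟨W.mkQ x, hψm x⟩,
      Submodule.span_image, hss, Submodule.map_top, Submodule.range_mkQ]
  obtain ⟨w, hw0, hw⟩ := exists_fixed_ne_zero hq hq0 ψ (fun a x => by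
      obtain ⟨x, rfl⟩ := W.mkQ_surjective x
      rw [← map_smul, hψm, hψm, hφ, map_smul]) hψss
    (v := W.mkQ v) (by simpa [Submodule.Quotient.mk_eq_zero] using hv)
  obtain ⟨w, rfl⟩ := W.mkQ_surjective w
  rw [hψm, Submodule.mkQ_apply, Submodule.mkQ_apply, Submodule.Quotient.eq] at hw
  obtain ⟨-, y, hy, hy'⟩ := hmap _ hw
  have hfix : φ (w - y) = w - y := by
    rw [map_sub, ← sub_eq_zero]
    rw [← sub_eq_zero] at hy'
    calc φ w - φ y - (w - y) = -(φ y - y - (φ w - w)) := by abel
      _ = 0 := by rw [hy', neg_zero]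
  refine hw0 ((Submodule.Quotient.mk_eq_zero W).2 ?_)
  have := add_mem (Submodule.subset_span (R := k) (show w - y ∈ {v : V | φ v = v} from hfix)) hy
  simpa using this

theorem exists_basis_fixed {V : Type v} [AddCommGroup V] [Module k V] [FiniteDimensional k V]
    (hq : 2 ≤ q) (hq0 : (q : k) = 0) (φ : V →+ V)
    (hφ : ∀ (a : k) (v : V), φ (a • v) = a ^ q • φ v) (hss : Submodule.span k (Set.range φ) = ⊤) :
    ∃ b : Module.Basis (Fin (Module.finrank k V)) k V, (∀ i, φ (b i) = b i) ∧
      ∀ v : V, φ v = v → ∀ i, (b.repr v i) ^ q = b.repr v i := by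
  have hspan := span_fixed_eq_top hq hq0 φ hφ hss
  let B := Module.Basis.ofSpan hspan.ge
  have := Fintype.ofFinite ((linearIndepOn_empty k id).extend (Set.empty_subset {v : V | φ v = v}))
  let b := B.reindex (Fintype.equivFinOfCardEq (Module.finrank_eq_card_basis B).symm)
  have hb : ∀ i, φ (b i) = b i := fun i => by
    rw [Module.Basis.reindex_apply]
    exact Module.Basis.ofSpan_subset hspan.ge ⟨_, rfl⟩
  refine ⟨b, hb, fun v hv i => ?_⟩
  have h1 : ∑ j, (b.repr v j) ^ q • b j = v := by
    conv_rhs => rw [← hv, ← b.sum_repr v, apply_sum_smul φ hφ]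
    simp only [hb]
  have h2 := congrArg (fun z => b.repr z i) h1
  simp only [b.repr_sum_self] at h2
  exact h2

/-- `1 - φ` is surjective. -/
theorem surjective_sub {V : Type v} [AddCommGroup V] [Module k V] [FiniteDimensional k V]
    (hq : 2 ≤ q) (hq0 : (q : k) = 0) (φ : V →+ V) (hφ : ∀ (a : k) (v : V), φ (a • v) = a ^ q • φ v) :
    Function.Surjective fun v : V => v - φ v := by
  have hit : ∀ (m : ℕ) (a : k) (v : V), φ^[m] (a • v) = a ^ q ^ m • φ^[m] v := by
    intro m
    induction m with
    | zero => intro a v; simp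
    | succ m ih =>
      intro a v
      rw [Function.iterate_succ_apply', ih, hφ, ← pow_mul, ← pow_succ, Function.iterate_succ_apply']
  let U : ℕ →o (Submodule k V)ᵒᵈ := ⟨fun m => OrderDual.toDual (Submodule.span k (Set.range (φ^[m]))),
    monotone_nat_of_le_succ fun m => by
      show Submodule.span k (Set.range (φ^[m + 1])) ≤ Submodule.span k (Set.range (φ^[m]))
      refine Submodule.span_mono ?_
      rintro _ ⟨v, rfl⟩
      exact ⟨φ v, rfl⟩⟩
  obtain ⟨n, hn⟩ := IsArtinian.monotone_stabilizes U
  let W := Submodule.span k (Set.range (φ^[n]))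
  have hW : ∀ v ∈ W, φ v ∈ W := fun v hv => by
    induction hv using Submodule.span_induction with
    | mem x hx =>
      obtain ⟨y, rfl⟩ := hx
      exact Submodule.subset_span ⟨φ y, by rw [← Function.iterate_succ_apply, Function.iterate_succ_apply']⟩
    | zero => simp
    | add x y _ _ hx hy => rw [map_add]; exact add_mem hx hy
    | smul c x _ hx => rw [hφ]; exact Submodule.smul_mem _ _ hx
  let ψ : W →+ W := (φ.comp W.subtype.toAddMonoidHom).codRestrict W.toAddSubgroup fun v => hW v v.2
  have hψss : Submodule.span k (Set.range ψ) = ⊤ := by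
    apply Submodule.map_injective_of_injective W.subtype_injective
    rw [Submodule.map_span, Submodule.map_top, Submodule.range_subtype]
    refine le_antisymm (Submodule.span_le.2 ?_) ?_
    · rintro _ ⟨x, -, rfl⟩; exact x.2
    · show OrderDual.ofDual (U n) ≤ _
      rw [hn (n + 1) (by omega)]
      refine Submodule.span_mono ?_
      rintro _ ⟨v, rfl⟩
      exact ⟨ψ ⟨φ^[n] v, Submodule.subset_span ⟨v, rfl⟩⟩, ⟨_, rfl⟩, (Function.iterate_succ_apply' φ n v).symm⟩
  intro w
  have hmem : φ^[n] w ∈ W := Submodule.subset_span ⟨w, rfl⟩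
  obtain ⟨-, y, -, hy⟩ := exists_sub_eq hq hq0 ψ (fun a v => Subtype.ext (hφ a v))
    (w := ⟨φ^[n] w, hmem⟩) (by rw [span_fixed_eq_top hq hq0 ψ (fun a v => Subtype.ext (hφ a v)) hψss]; trivial)
  have hy' : φ (y : V) - y = φ^[n] w := congrArg Subtype.val hy
  refine ⟨(∑ i ∈ Finset.range n, φ^[i] w) + (-(y : V)), ?_⟩
  show _ - φ _ = w
  rw [map_add, map_neg, map_sum]
  simp only [← Function.iterate_succ_apply' φ]
  have h := Finset.sum_range_succ' (fun i => φ^[i] w) n
  rw [Finset.sum_range_succ] at h
  simp only [Function.iterate_zero_apply] at h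
  have h' : φ (y : V) = φ^[n] w + y := by rw [← hy']; abel
  rw [h']
  rw [show ∑ i ∈ Finset.range n, φ^[i + 1] w = ∑ i ∈ Finset.range n, φ^[i] w + φ^[n] w - w by rw [h]; abel]
  abel

end GrothLib.FrobSep
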